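import Groth.Agent.Lib.RigPoints
import Groth.Agent.H23.Rigid
import Groth.Agent.H23.KLBasic
import Groth.Agent.EtFound.SectionUnr
import Groth.Agent.PicClLib.Basic
import Groth.Prelude.Def_PicF2

/-!
Galois descent of classes of invertible modules along a finite Galois extension, in the presence of a
rational point.
-/

set_option autoImplicit false
set_option linter.unusedSectionVars false
set_option linter.style.haveILetI false
set_option backward.isDefEq.respectTransparency false
set_option backward.isDefEq.respectTransparency.types false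
set_option maxHeartbeats 800000

universe u

open CategoryTheory CategoryTheory.Limits AlgebraicGeometry TopologicalSpace Opposite

noncomputable section

namespace Groth.Agent.GalPic

open Groth.Agent.RigDatum
open scoped Groth.Agent.H23.PicMul

variable (k L : Type u) [Field k] [Field L] [Algebra k L]

/-- The spectrum of an extension over the spectrum of the base field. -/
abbrev base₀ : Over (Spec (CommRingCat.of k)) := Over.mk (𝟙 (Spec (CommRingCat.of k)))

/-- The structure map of an extension. -/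
abbrev uL : Spec (CommRingCat.of L) ⟶ (base₀ k).left := Spec.map (CommRingCat.ofHom (algebraMap k L))

/-- The graph of an automorphism. -/
def gr (σ : L ≃ₐ[k] L) : Spec (CommRingCat.of L) ⟶ pullback (uL k L) (uL k L) :=
  pullback.lift (𝟙 _) (Spec.map (CommRingCat.ofHom (σ : L →+* L))) (by
    rw [Category.id_comp]
    show Spec.map _ = Spec.map _ ≫ Spec.map _
    rw [← Spec.map_comp, ← CommRingCat.ofHom_comp]
    congr 2
    ext x
    simp)

theorem gr_fst (σ : L ≃ₐ[k] L) : gr k L σ ≫ pullback.fst _ _ = 𝟙 _ := pullback.lift_fst _ _ _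

theorem gr_snd (σ : L ≃ₐ[k] L) :
    gr k L σ ≫ pullback.snd _ _ = Spec.map (CommRingCat.ofHom (σ : L →+* L)) := pullback.lift_snd _ _ _

theorem eq_of_gr {Z : Scheme.{u}} (z : Z) (a b : Z ⟶ Spec (CommRingCat.of L)) (σ τ : L ≃ₐ[k] L)
    (e : a ≫ gr k L σ = b ≫ gr k L τ) : σ = τ := by
  have e1 := congrArg (· ≫ pullback.fst _ _) e
  have e2 := congrArg (· ≫ pullback.snd _ _) e
  simp only [Category.assoc, gr_fst, gr_snd, Category.comp_id] at e1 e2
  subst e1
  have e3 : Z.fromSpecResidueField z ≫ _ = Z.fromSpecResidueField z ≫ _ :=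
    congrArg (fun g => Z.fromSpecResidueField z ≫ g) e2
  obtain ⟨ψ, hψ⟩ : ∃ ψ, Z.fromSpecResidueField z ≫ a = Spec.map ψ := ⟨_, (Spec.map_preimage _).symm⟩
  rw [← Category.assoc, ← Category.assoc, hψ, ← Spec.map_comp, ← Spec.map_comp] at e3
  have e4 := Spec.map_injective e3
  refine AlgEquiv.ext fun x => ψ.hom.injective ?_
  exact ConcreteCategory.congr_hom e4 x

theorem exists_gr_aux [IsGalois k L] {Ω : Type u} [Field Ω] (a : Spec (CommRingCat.of Ω) ⟶ pullback (uL k L) (uL k L)) :
    ∃ (σ : L ≃ₐ[k] L) (b : Spec (CommRingCat.of Ω) ⟶ Spec (CommRingCat.of L)), b ≫ gr k L σ = a := by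
  obtain ⟨φ₁, h₁⟩ : ∃ φ, a ≫ pullback.fst _ _ = Spec.map φ := ⟨_, (Spec.map_preimage _).symm⟩
  obtain ⟨φ₂, h₂⟩ : ∃ φ, a ≫ pullback.snd _ _ = Spec.map φ := ⟨_, (Spec.map_preimage _).symm⟩
  have hc : Spec.map φ₁ ≫ uL k L = Spec.map φ₂ ≫ uL k L := by
    rw [← h₁, ← h₂, Category.assoc, Category.assoc, pullback.condition]
  have hc' : CommRingCat.ofHom (algebraMap k L) ≫ φ₁ = CommRingCat.ofHom (algebraMap k L) ≫ φ₂ :=
    Spec.map_injective ((Spec.map_comp _ _).trans (hc.trans (Spec.map_comp _ _).symm))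
  letI : Algebra L Ω := φ₁.hom.toAlgebra
  letI : Algebra k Ω := (φ₁.hom.comp (algebraMap k L)).toAlgebra
  haveI : IsScalarTower k L Ω := IsScalarTower.of_algebraMap_eq fun x => rfl
  let ψ : L →ₐ[k] Ω := AlgHom.mk φ₂.hom fun x => (RingHom.congr_fun (congrArg CommRingCat.Hom.hom hc') x).symm
  refine ⟨ψ.restrictNormal' L, Spec.map φ₁, ?_⟩
  refine pullback.hom_ext ?_ ?_
  · rw [Category.assoc, gr_fst, Category.comp_id, h₁]
  · rw [Category.assoc, gr_snd, h₂, ← Spec.map_comp]
    congr 1
    ext x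
    exact ψ.restrictNormal_commutes L x

theorem exists_gr [IsGalois k L] (q : (pullback (uL k L) (uL k L) : Scheme.{u})) :
    ∃ (σ : L ≃ₐ[k] L) (p : Spec (CommRingCat.of L)), gr k L σ p = q := by
  obtain ⟨σ, b, hb⟩ := exists_gr_aux k L
    (Spec.map (CommRingCat.ofHom (algebraMap ((pullback (uL k L) (uL k L)).residueField q)
      (AlgebraicClosure ((pullback (uL k L) (uL k L)).residueField q)))) ≫
      (pullback (uL k L) (uL k L)).fromSpecResidueField q)
  refine ⟨σ, b (Classical.arbitrary _), ?_⟩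
  rw [← Scheme.Hom.comp_apply, hb, Scheme.Hom.comp_apply]
  exact Scheme.fromSpecResidueField_apply _ _

theorem isOpenImmersion_gr [FiniteDimensional k L] [Algebra.IsSeparable k L] (σ : L ≃ₐ[k] L) :
    IsOpenImmersion (gr k L σ) := by
  haveI : FormallyUnramified (Spec.map (CommRingCat.ofHom (algebraMap k L))) :=
    (HasRingHomProperty.Spec_iff (P := @FormallyUnramified)).2
      (RingHom.formallyUnramified_algebraMap.2 (Algebra.FormallyUnramified.of_isSeparable k L))
  haveI : LocallyOfFiniteType (Spec.map (CommRingCat.ofHom (algebraMap k L))) :=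
    (HasRingHomProperty.Spec_iff (P := @LocallyOfFiniteType)).2
      (RingHom.finiteType_algebraMap.2 inferInstance)
  haveI : FormallyUnramified (pullback.fst (uL k L) (uL k L)) := MorphismProperty.pullback_fst _ _ ‹_›
  haveI : LocallyOfFiniteType (pullback.fst (uL k L) (uL k L)) := MorphismProperty.pullback_fst _ _ ‹_›
  exact EtFound.isOpenImmersion_section (pullback.fst (uL k L) (uL k L)) _ (gr_fst k L σ)

variable {k} {X : Scheme.{u}} (f : X ⟶ Spec (CommRingCat.of k))

/-- The graph of an automorphism, over the base. -/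
def grO (σ : L ≃ₐ[k] L) : AbDual.ovr (base₀ k) (uL k L) ⟶ R₂ (base₀ k) (uL k L) :=
  Over.homMk (gr k L σ) (by
    show gr k L σ ≫ pullback.fst _ _ ≫ _ = _
    rw [← Category.assoc, gr_fst]
    exact Category.id_comp _)

/-- The two models of the base change. -/
def cmp : PicF.XT f (AbDual.ovr (base₀ k) (uL k L)) ≅
    pullback f (Spec.map (CommRingCat.ofHom (algebraMap k L))) :=
  pullback.congrHom rfl (Category.comp_id _)

theorem cmp_fst : (cmp L f).hom ≫ pullback.fst _ _ = pullback.fst _ _ := by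
  simp [cmp, pullback.congrHom]

theorem cmp_snd : (cmp L f).hom ≫ pullback.snd _ _ = pullback.snd _ _ := by
  simp [cmp, pullback.congrHom]

theorem grO_r₁ (σ : L ≃ₐ[k] L) :
    PicF.XTmap f (grO L σ) ≫ PicF.XTmap f (r₁ (base₀ k) (uL k L)) = 𝟙 _ := by
  refine pullback.hom_ext ?_ ?_
  · rw [Category.assoc, XTmap_fst, XTmap_fst, Category.id_comp]
  · rw [Category.assoc, XTmap_snd, reassoc_of% (XTmap_snd f (grO L σ))]
    show pullback.snd _ _ ≫ gr k L σ ≫ pullback.fst _ _ = _
    rw [gr_fst, Category.comp_id]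
    exact (Category.id_comp _).symm

theorem grO_r₂ (σ : L ≃ₐ[k] L) :
    (PicF.XTmap f (grO L σ) ≫ PicF.XTmap f (r₂ (base₀ k) (uL k L))) ≫ (cmp L f).hom =
      (cmp L f).hom ≫ PicF2.twistAut f σ := by
  refine pullback.hom_ext ?_ ?_
  · rw [Category.assoc, Category.assoc, cmp_fst, XTmap_fst, XTmap_fst]
    simp [PicF2.twistAut, cmp_fst]
  · rw [Category.assoc, Category.assoc, cmp_snd, XTmap_snd, reassoc_of% (XTmap_snd f (grO L σ))]
    show pullback.snd _ _ ≫ gr k L σ ≫ pullback.snd _ _ = _
    rw [gr_snd]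
    simp [PicF2.twistAut, reassoc_of% (cmp_snd L f)]

/-- Push-forward of functions along a projection. -/
theorem isIso_app [CompactSpace X] [QuasiSeparatedSpace X] (hH0 : IsIso f.appTop)
    (T : Over (Spec (CommRingCat.of k))) (U : T.left.Opens) : IsIso ((PicF.XTproj f T).app U) := by
  haveI : QuasiCompact f := (quasiCompact_iff_compactSpace f).2 inferInstance
  haveI : QuasiSeparated f := (quasiSeparated_iff_quasiSeparatedSpace f).2 inferInstance
  exact (ConcreteCategory.isIso_iff_bijective _).2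
    (H23.Rigid.bijective_app_snd_of_bijective f T.hom (ConcreteCategory.bijective_of_isIso f.appTop) U)

/-- **Galois descent along a finite extension.** -/
theorem exists_descent_finite [FiniteDimensional k L] [IsGalois k L] [CompactSpace X] [QuasiSeparatedSpace X]
    (hH0 : IsIso f.appTop) (x : Spec (CommRingCat.of k) ⟶ X) (hx : x ≫ f = 𝟙 _)
    (d : PicF.Cl (pullback f (Spec.map (CommRingCat.ofHom (algebraMap k L))))) (hd : PicF.IsInvertibleCl d)
    (hfix : ∀ σ : L ≃ₐ[k] L, PicF.pullCl (PicF2.twistAut f σ) d = d) :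
    ∃ c : PicF.Cl X, PicF.IsInvertibleCl c ∧
      PicF.pullCl (pullback.fst f (Spec.map (CommRingCat.ofHom (algebraMap k L)))) c = d := by
  let T := base₀ k
  let v := uL k L
  haveI : Surjective v := ⟨fun y => ⟨Classical.arbitrary _, Subsingleton.elim (α := Spec (CommRingCat.of k)) _ _⟩⟩
  haveI : Flat v := inferInstanceAs (Flat (Spec.map (CommRingCat.ofHom (algebraMap k L))))
  haveI : LocallyOfFinitePresentation v :=
    (HasRingHomProperty.Spec_iff (P := @LocallyOfFinitePresentation)).2
      (RingHom.finitePresentation_algebraMap.2 (Algebra.FinitePresentation.of_finiteType.1 inferInstance))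
  obtain ⟨c', hc'd⟩ : ∃ c' : PicF.Cl (PicF.XT f (AbDual.ovr T v)), c' = PicF.pullCl (cmp L f).hom d := ⟨_, rfl⟩
  have hc' : PicF.IsInvertibleCl c' := hc'd ▸ PicClLib.isInvertibleCl_pullCl _ hd
  have htriv : PicF.IsTrivialCl (PicF.pullCl (PicF.secT f x hx (AbDual.ovr T v)) c') := by
    obtain ⟨M, hM, hMi⟩ := PicClLib.isInvertibleCl_pullCl (PicF.secT f x hx (AbDual.ovr T v)) hc'
    rw [← hM]
    haveI : Subsingleton (AbDual.ovr T v).left := inferInstanceAs (Subsingleton (Spec (CommRingCat.of L)))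
    haveI : Nonempty (AbDual.ovr T v).left := inferInstanceAs (Nonempty (Spec (CommRingCat.of L)))
    exact H23.KLBasic.trivial_of_subsingleton hMi
  have hglue : PicF.pullCl (PicF.XTmap f (r₁ T v)) c' = PicF.pullCl (PicF.XTmap f (r₂ T v)) c' := by
    haveI : ∀ σ : L ≃ₐ[k] L, IsOpenImmersion (PicF.XTmap f (grO L σ)) := fun σ =>
      MorphismProperty.of_isPullback (RigPoints.isPullback_XTmap f (grO L σ)).flip (isOpenImmersion_gr k L σ)
    refine RigPoints.cl_eq_of_disjoint (fun σ : L ≃ₐ[k] L => PicF.XTmap f (grO L σ)) ?_ ?_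
      (PicClLib.isInvertibleCl_pullCl _ hc') (PicClLib.isInvertibleCl_pullCl _ hc') fun σ => ?_
    · intro Z s t a b e hst
      refine ⟨fun z => hst (eq_of_gr k L z (a ≫ PicF.XTproj f _) (b ≫ PicF.XTproj f _) s t ?_)⟩
      have h := congrArg (· ≫ PicF.XTproj f _) e
      simp only [Category.assoc, RigPoints.XTmap_proj] at h
      rw [Category.assoc, Category.assoc]
      exact h
    · intro z
      obtain ⟨σ, p, hp⟩ := exists_gr k L (PicF.XTproj f _ z)
      obtain ⟨w, hw, -⟩ := Scheme.Pullback.exists_preimage_pullback (f := PicF.XTproj f _)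
        (g := gr k L σ) z p hp.symm
      let h := RigPoints.isPullback_XTmap f (grO L σ)
      refine ⟨σ, h.isoPullback.inv w, ?_⟩
      rw [← Scheme.Hom.comp_apply, h.isoPullback_inv_fst]
      exact hw
    · rw [PicClLib.pullCl_comp, PicClLib.pullCl_comp, grO_r₁, PicClLib.pullCl_id]
      rw [hc'd, PicClLib.pullCl_comp, grO_r₂, ← PicClLib.pullCl_comp, hfix]
  obtain ⟨⟨c, hc, _⟩, hcv, _⟩ := RigSheaf.existsUnique_rig f x hx (isIso_app f hH0) T v ⟨c', hc', htriv⟩ hglue
  let i : X ⟶ PicF.XT f T := pullback.lift (𝟙 X) f (by rw [Category.id_comp]; exact (Category.comp_id _).symm)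
  refine ⟨PicF.pullCl i c, PicClLib.isInvertibleCl_pullCl _ hc, ?_⟩
  have e : (cmp L f).hom ≫ pullback.fst f (Spec.map (CommRingCat.ofHom (algebraMap k L))) ≫ i =
      RigDatum.v f T v := by
    refine pullback.hom_ext ?_ ?_
    · rw [Category.assoc, Category.assoc, XTmap_fst]
      simp [i, cmp_fst]
      rfl
    · rw [Category.assoc, Category.assoc, XTmap_snd]
      simp only [i, pullback.lift_snd]
      rw [reassoc_of% (cmp_fst L f), pullback.condition]
      show pullback.snd f _ ≫ (v ≫ 𝟙 _) = _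
      rw [Category.comp_id]
      rfl
  have h2 : PicF.pullCl (cmp L f).hom (PicF.pullCl (pullback.fst f (Spec.map (CommRingCat.ofHom (algebraMap k L))))
      (PicF.pullCl i c)) = PicF.pullCl (cmp L f).hom d := by
    rw [PicClLib.pullCl_comp, PicClLib.pullCl_comp, Category.assoc, e]
    exact hcv.trans hc'd
  have h3 := congrArg (PicF.pullCl (cmp L f).inv) h2
  rwa [PicClLib.pullCl_comp, PicClLib.pullCl_comp (cmp L f).inv, Iso.inv_hom_id, PicClLib.pullCl_id,
    PicClLib.pullCl_id] at h3

end Groth.Agent.GalPic
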