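import Groth.Agent.GalPic.Finite
import Groth.Agent.LimPic.Iso
import Mathlib.FieldTheory.Galois.GaloisClosure
import Mathlib.CategoryTheory.Limits.Constructions.Over.Connected

/-!
Galois descent of classes of invertible modules along an arbitrary Galois extension.
-/

set_option autoImplicit false
set_option linter.unusedSectionVars false
set_option linter.style.haveILetI false
set_option backward.isDefEq.respectTransparency false
set_option backward.isDefEq.respectTransparency.types false
set_option maxHeartbeats 800000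

universe u

open CategoryTheory CategoryTheory.Limits AlgebraicGeometry TopologicalSpace Opposite

noncomputable section

namespace Groth.Agent.GalPic

variable {k : Type u} [Field k] {X : Scheme.{u}} (f : X ⟶ Spec (CommRingCat.of k))

/-- The base change to an extension. -/
abbrev bc (L : Type u) [Field L] [Algebra k L] : Scheme.{u} :=
  pullback f (Spec.map (CommRingCat.ofHom (algebraMap k L)))

section Maps

variable {L₁ L₂ L₃ : Type u} [Field L₁] [Field L₂] [Field L₃] [Algebra k L₁] [Algebra k L₂] [Algebra k L₃]

/-- The map of base changes induced by an embedding. -/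
def mI (ι : L₁ →ₐ[k] L₂) : bc f L₂ ⟶ bc f L₁ :=
  pullback.map _ _ _ _ (𝟙 X) (Spec.map (CommRingCat.ofHom (ι : L₁ →+* L₂))) (𝟙 _) (by simp)
    (by rw [Category.comp_id, ← Spec.map_comp, ← CommRingCat.ofHom_comp]; congr 2; ext x; simp)

theorem mI_fst (ι : L₁ →ₐ[k] L₂) : mI f ι ≫ pullback.fst _ _ = pullback.fst _ _ :=
  (pullback.lift_fst _ _ _).trans (Category.comp_id _)

theorem mI_snd (ι : L₁ →ₐ[k] L₂) :
    mI f ι ≫ pullback.snd _ _ = pullback.snd _ _ ≫ Spec.map (CommRingCat.ofHom (ι : L₁ →+* L₂)) :=
  pullback.lift_snd _ _ _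

theorem mI_id : mI f (AlgHom.id k L₁) = 𝟙 _ := by
  refine pullback.hom_ext ?_ ?_
  · rw [mI_fst, Category.id_comp]
  · rw [mI_snd, Category.id_comp]
    exact (congrArg (pullback.snd f _ ≫ ·) (Spec.map_id _)).trans (Category.comp_id _)

theorem mI_comp (ι : L₁ →ₐ[k] L₂) (ι' : L₂ →ₐ[k] L₃) : mI f ι' ≫ mI f ι = mI f (ι'.comp ι) := by
  refine pullback.hom_ext ?_ ?_
  · simp only [Category.assoc, mI_fst]
  · simp only [Category.assoc, mI_snd, reassoc_of% (mI_snd f ι'), ← Spec.map_comp]
    rfl

theorem isPullback_mI (ι : L₁ →ₐ[k] L₂) :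
    IsPullback (mI f ι) (pullback.snd _ _) (pullback.snd _ _) (Spec.map (CommRingCat.ofHom (ι : L₁ →+* L₂))) := by
  refine IsPullback.of_right ?_ (mI_snd f ι) (IsPullback.of_hasPullback f _)
  rw [mI_fst, ← Spec.map_comp, ← CommRingCat.ofHom_comp, AlgHom.comp_algebraMap]
  exact IsPullback.of_hasPullback f _

theorem twist_mI (ι : L₁ →ₐ[k] L₂) (σ₁ : L₁ ≃ₐ[k] L₁) (σ₂ : L₂ ≃ₐ[k] L₂) (h : ∀ x, ι (σ₁ x) = σ₂ (ι x)) :
    PicF2.twistAut f σ₂ ≫ mI f ι = mI f ι ≫ PicF2.twistAut f σ₁ := by
  refine pullback.hom_ext ?_ ?_
  · simp [PicF2.twistAut, mI_fst]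
  · rw [Category.assoc, mI_snd]
    simp only [PicF2.twistAut, pullback.lift_snd, pullback.lift_snd_assoc, Category.assoc,
      reassoc_of% (mI_snd f ι), ← Spec.map_comp]
    congr 2
    ext x
    exact (h x).symm

end Maps

variable (k' : Type u) [Field k'] [Algebra k k']

local notation "J" => (FiniteGaloisIntermediateField k k')ᵒᵖ

/-- The finite Galois subextensions. -/
def rings : FiniteGaloisIntermediateField k k' ⥤ CommRingCat.{u} where
  obj L := CommRingCat.of L.toIntermediateField
  map {L L'} h := CommRingCat.ofHom (IntermediateField.inclusion (leOfHom h)).toRingHom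

/-- Their union. -/
def cocone : Cocone (rings (k := k) k') where
  pt := CommRingCat.of k'
  ι := { app := fun L => CommRingCat.ofHom L.toIntermediateField.val.toRingHom }

/-- The union is the colimit. -/
def isColimit [IsGalois k k'] : IsColimit (cocone (k := k) k') := by
  haveI : ReflectsColimit (rings (k := k) k') (forget CommRingCat.{u}) :=
    reflectsColimit_of_reflectsIsomorphisms _ _
  refine isColimitOfReflects (forget CommRingCat.{u}) ?_
  refine Types.FilteredColimit.isColimitOf' _ _ (fun z => ?_) fun L x y h => ?_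
  · exact ⟨FiniteGaloisIntermediateField.adjoin k {z},
      ⟨z, FiniteGaloisIntermediateField.subset_adjoin k _ (Set.mem_singleton z)⟩, rfl⟩
  · exact ⟨L, 𝟙 L, congrArg _ (Subtype.ext h)⟩

/-- The spectra of the finite Galois subextensions. -/
abbrev base : J ⥤ Scheme.{u} := (rings (k := k) k').op ⋙ Scheme.Spec

/-- The limit cone. -/
abbrev baseCone : Cone (base (k := k) k') := Scheme.Spec.mapCone (cocone (k := k) k').op

/-- The inclusion attached to an arrow of the index category. -/
def inc {L L' : J} (h : L ⟶ L') : L'.unop.toIntermediateField →ₐ[k] L.unop.toIntermediateField :=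
  IntermediateField.inclusion (leOfHom h.unop)

theorem inc_id (L : J) : inc k' (𝟙 L) = AlgHom.id k L.unop.toIntermediateField := AlgHom.ext fun x => rfl

theorem inc_comp {L L' L'' : J} (h : L ⟶ L') (h' : L' ⟶ L'') : inc k' (h ≫ h') = (inc k' h).comp (inc k' h') :=
  AlgHom.ext fun x => rfl

theorem val_comp_inc {L L' : J} (h : L ⟶ L') :
    L.unop.toIntermediateField.val.comp (inc k' h) = L'.unop.toIntermediateField.val :=
  AlgHom.ext fun x => rfl

/-- The base changes to the finite Galois subextensions. -/
def sys : J ⥤ Scheme.{u} where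
  obj L := bc f L.unop.toIntermediateField
  map {L L'} h := mI f (inc k' h)
  map_id L := by rw [inc_id]; exact mI_id f
  map_comp {L L' L''} h h' := by rw [inc_comp]; exact (mI_comp f (inc k' h') (inc k' h)).symm

/-- The cone on the base change to the whole extension. -/
def cone : Cone (sys f k') where
  pt := bc f k'
  π :=
    { app := fun L => mI f L.unop.toIntermediateField.val
      naturality := fun L L' h => (Category.id_comp _).trans
        ((congrArg (mI f) (val_comp_inc k' h).symm).trans
          (mI_comp f (inc k' h) L.unop.toIntermediateField.val).symm) }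

theorem sys_snd {L L' : J} (h : L ⟶ L') :
    (sys f k').map h ≫ pullback.snd f (Spec.map (CommRingCat.ofHom (algebraMap k L'.unop.toIntermediateField))) =
      pullback.snd f (Spec.map (CommRingCat.ofHom (algebraMap k L.unop.toIntermediateField))) ≫
        (base (k := k) k').map h :=
  mI_snd f (inc k' h)

/-- The projection to the system of spectra. -/
def toBase : sys f k' ⟶ base (k := k) k' where
  app L := pullback.snd f (Spec.map (CommRingCat.ofHom (algebraMap k L.unop.toIntermediateField)))
  naturality _ _ h := sys_snd f k' h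

theorem cone_snd (L : J) :
    pullback.snd f (Spec.map (CommRingCat.ofHom (algebraMap k k'))) ≫ (baseCone (k := k) k').π.app L =
      (cone f k').π.app L ≫ (toBase f k').app L :=
  (mI_snd f L.unop.toIntermediateField.val).symm

theorem cone_isPullback (L : J) :
    IsPullback ((cone f k').π.app L) (pullback.snd f (Spec.map (CommRingCat.ofHom (algebraMap k k'))))
      ((toBase f k').app L) ((baseCone (k := k) k').π.app L) :=
  isPullback_mI f L.unop.toIntermediateField.val

/-- The map of cones to the limit of the spectra. -/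
def coneHom : (Cone.postcompose (toBase f k')).obj (cone f k') ⟶ baseCone (k := k) k' where
  hom := pullback.snd f (Spec.map (CommRingCat.ofHom (algebraMap k k')))
  w L := cone_snd f k' L

/-- The base changes approximate the base change to the whole extension. -/
def isLimit [IsGalois k k'] : IsLimit (cone f k') := by
  haveI : PreservesLimitsOfSize.{u, u} Scheme.Spec.{u} := ΓSpec.adjunction.rightAdjoint_preservesLimits
  haveI : IsConnected J := IsCofiltered.isConnected _
  exact isLimitOfIsPullbackOfIsConnected (toBase f k') (cone f k') (baseCone (k := k) k') (coneHom f k')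
    (cone_isPullback f k') (isLimitOfPreserves Scheme.Spec (isColimit (k := k) k').op)

instance {L L' : J} (h : L ⟶ L') : IsAffineHom ((sys f k').map h) :=
  MorphismProperty.of_isPullback (isPullback_mI f (IntermediateField.inclusion (leOfHom h.unop))).flip
    (inferInstanceAs (IsAffineHom (Spec.map _)))

instance isAffineHom_fst (L : J) :
    IsAffineHom (pullback.fst f (Spec.map (CommRingCat.ofHom (algebraMap k L.unop.toIntermediateField)))) :=
  MorphismProperty.pullback_fst _ _ inferInstance

instance [CompactSpace X] (L : J) : CompactSpace ((sys f k').obj L) :=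
  QuasiCompact.compactSpace_of_compactSpace
    (pullback.fst f (Spec.map (CommRingCat.ofHom (algebraMap k L.unop.toIntermediateField))))

instance [QuasiSeparatedSpace X] (L : J) : QuasiSeparatedSpace ((sys f k').obj L) :=
  quasiSeparatedSpace_of_quasiSeparated
    (pullback.fst f (Spec.map (CommRingCat.ofHom (algebraMap k L.unop.toIntermediateField))))

/-- **Galois descent of classes.** -/
theorem exists_descent [IsGalois k k'] [CompactSpace X] [QuasiSeparatedSpace X]
    (hH0 : IsIso f.appTop) (x : Spec (CommRingCat.of k) ⟶ X) (hx : x ≫ f = 𝟙 _)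
    (d : PicF.Cl (bc f k')) (hd : PicF.IsInvertibleCl d)
    (hfix : ∀ σ : k' ≃ₐ[k] k', PicF.pullCl (PicF2.twistAut f σ) d = d) :
    ∃ c : PicF.Cl X, PicF.IsInvertibleCl c ∧
      PicF.pullCl (pullback.fst f (Spec.map (CommRingCat.ofHom (algebraMap k k')))) c = d := by
  obtain ⟨N, rfl, hN⟩ := hd
  obtain ⟨i, M, hM, ⟨e⟩⟩ := LimPic.exists_invertible (isLimit f k') N hN
  have hMd : PicF.pullCl ((cone f k').π.app i) (PicF.cl M) = PicF.cl N := H23.PicMul.cl_eq_iff.2 ⟨e⟩
  have hstep : ∀ σ₁ : i.unop.toIntermediateField ≃ₐ[k] i.unop.toIntermediateField, ∃ j : Over i,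
      PicF.pullCl ((sys f k').map j.hom) (PicF.pullCl (PicF2.twistAut f σ₁) (PicF.cl M)) =
        PicF.pullCl ((sys f k').map j.hom) (PicF.cl M) := fun σ₁ => by
    have h : PicF.pullCl ((cone f k').π.app i) (PicF.pullCl (PicF2.twistAut f σ₁) (PicF.cl M)) =
        PicF.pullCl ((cone f k').π.app i) (PicF.cl M) := by
      have hsq : PicF2.twistAut f (σ₁.liftNormal k') ≫ (cone f k').π.app i =
          (cone f k').π.app i ≫ PicF2.twistAut f σ₁ :=
        twist_mI f _ _ _ fun z => (σ₁.liftNormal_commutes k' z).symm
      refine (PicClLib.pullCl_comp _ _ _).trans ((congrArg (fun g => PicF.pullCl g (PicF.cl M)) hsq.symm).trans ?_)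
      refine (PicClLib.pullCl_comp _ _ _).symm.trans ?_
      rw [hMd]
      exact hfix _
    obtain ⟨φ⟩ := H23.PicMul.cl_eq_iff.1 h
    obtain ⟨j, ⟨ψ⟩⟩ := LimPic.exists_iso (isLimit f k') (i := i)
      (A := (Scheme.Modules.pullback (PicF2.twistAut f σ₁)).obj M) (B := M)
      (PicClLib.isInvertible_pullback _ hM) hM φ
    exact ⟨j, H23.PicMul.cl_eq_iff.2 ⟨ψ⟩⟩
  obtain ⟨j, hj⟩ := LimPic.exists_forall
    (fun (σ₁ : i.unop.toIntermediateField ≃ₐ[k] i.unop.toIntermediateField) (j : Over i) =>
      PicF.pullCl ((sys f k').map j.hom) (PicF.pullCl (PicF2.twistAut f σ₁) (PicF.cl M)) =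
        PicF.pullCl ((sys f k').map j.hom) (PicF.cl M))
    (fun σ₁ {j j'} g h => by
      have h' := congrArg (PicF.pullCl ((sys f k').map g.left)) h
      have hw : (sys f k').map g.left ≫ (sys f k').map j.hom = (sys f k').map j'.hom :=
        ((sys f k').map_comp _ _).symm.trans (congrArg (sys f k').map (Over.w g))
      rw [← hw]
      exact (PicClLib.pullCl_comp _ _ _).symm.trans (h'.trans (PicClLib.pullCl_comp _ _ _)))
    hstep
  let L := j.left.unop.toIntermediateField
  let m : bc f L ⟶ bc f i.unop.toIntermediateField := (sys f k').map j.hom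
  have hfixL : ∀ τ : L ≃ₐ[k] L, PicF.pullCl (PicF2.twistAut f τ) (PicF.pullCl m (PicF.cl M)) =
      PicF.pullCl m (PicF.cl M) := fun τ => by
    have hsq : PicF2.twistAut f τ ≫ m =
        m ≫ PicF2.twistAut f ((τ.liftNormal k').restrictNormal i.unop.toIntermediateField) :=
      twist_mI f (inc k' j.hom) _ _ fun z => Subtype.ext
        (((τ.liftNormal k').restrictNormal_commutes i.unop.toIntermediateField z).trans
          (τ.liftNormal_commutes k' (IntermediateField.inclusion (leOfHom j.hom.unop) z)))
    rw [PicClLib.pullCl_comp, hsq, ← PicClLib.pullCl_comp]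
    exact hj _
  obtain ⟨c, hc, hcL⟩ := exists_descent_finite L f hH0 x hx _
    (PicClLib.isInvertibleCl_pullCl m ⟨M, rfl, hM⟩) hfixL
  refine ⟨c, hc, ?_⟩
  have h := congrArg (PicF.pullCl ((cone f k').π.app j.left)) hcL
  have hw : (cone f k').π.app j.left ≫ m = (cone f k').π.app i := (cone f k').w j.hom
  have hf : (cone f k').π.app j.left ≫ pullback.fst f (Spec.map (CommRingCat.ofHom (algebraMap k L))) =
      pullback.fst f (Spec.map (CommRingCat.ofHom (algebraMap k k'))) := mI_fst f _
  exact (congrArg (fun g => PicF.pullCl g c) hf).symm.trans ((PicClLib.pullCl_comp _ _ _).symm.trans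
    (h.trans ((PicClLib.pullCl_comp _ _ _).trans ((congrArg (fun g => PicF.pullCl g (PicF.cl M)) hw).trans hMd))))

end Groth.Agent.GalPic
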